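import Mathlib
import Groth.Prelude.Def_W4c2azumayainvolQEt
import Groth.Agent.S15573
import Groth.Agent.S15574
import Groth.Agent.S15586

/-!
# Quadratic etale locus of a ring with involution is open (S15575)
-/

set_option linter.unusedSectionVars false
set_option linter.unusedVariables false
set_option linter.unusedSimpArgs false
set_option autoImplicit false
set_option linter.style.haveILetI false
set_option maxHeartbeats 400000

universe u v w

open TensorProduct

namespace Groth.Agent.Lib.Helper6.RInvL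

variable (S : Type u) (R : Type v) [CommRing S] [CommRing R] [Algebra S R]
  (lam : R ≃+* R) (hlam : Function.Involutive lam) (hS : RInv.IsFixedRing S R lam)

/-- the involution as an `S`-algebra automorphism. -/
def lamA (hS : RInv.IsFixedRing S R lam) : R ≃ₐ[S] R :=
  AlgEquiv.ofRingEquiv (f := lam) (fun s => (hS.2 _).mpr ⟨s, rfl⟩)

theorem lamA_apply (r : R) : lamA S R lam hS r = lam r := rfl

variable (S' : Type w) [CommRing S'] [Algebra S S']

/-- the base-changed involution. -/
noncomputable def lamBC : (S' ⊗[S] R) ≃+* (S' ⊗[S] R) :=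
  (Algebra.TensorProduct.congr (AlgEquiv.refl : S' ≃ₐ[S] S') (lamA S R lam hS)).toRingEquiv

theorem lamBC_tmul (a : S') (r : R) : lamBC S R lam hS S' (a ⊗ₜ[S] r) = a ⊗ₜ[S] lam r := rfl

include hlam in
theorem lamBC_involutive : Function.Involutive (lamBC S R lam hS S') := by
  intro z
  induction z using TensorProduct.induction_on with
  | zero => rw [map_zero, map_zero]
  | tmul a r => rw [lamBC_tmul, lamBC_tmul, hlam r]
  | add x y hx hy => rw [map_add, map_add, hx, hy]

include hlam in
theorem lamBC_fixed [Module.Flat S S'] : RInv.IsFixedRing S' (S' ⊗[S] R) (lamBC S R lam hS S') :=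
  Groth.Agent.S15586.result S R S' (lamA S R lam hS) hlam hS (Or.inl inferInstance)


section Main

include hlam hS in
/-- a difference `x - lam x` dividing the image of `s` gives quadratic etaleness over `S[1/s]`. -/
theorem quadEtale_away (x y : R) (s : S) (h : (x - lam x) * y = algebraMap S R s) :
    RInv.IsQuadEtale (Localization.Away s) (Localization.Away s ⊗[S] R) := by
  haveI : Module.Flat S (Localization.Away s) := IsLocalization.flat _ (Submonoid.powers s)
  apply Groth.Agent.S15573.result (Localization.Away s) (Localization.Away s ⊗[S] R)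
    (lamBC S R lam hS (Localization.Away s)) (lamBC_involutive S R lam hlam hS _)
    (lamBC_fixed S R lam hlam hS _)
  refine ⟨(1 : Localization.Away s) ⊗ₜ[S] x, ?_⟩
  rw [lamBC_tmul, ← TensorProduct.tmul_sub]
  refine IsUnit.of_mul_eq_one ((IsLocalization.mk' (Localization.Away s) (1 : S)
    (⟨s, Submonoid.mem_powers s⟩ : Submonoid.powers s)) ⊗ₜ[S] y) ?_
  rw [Algebra.TensorProduct.tmul_mul_tmul, one_mul, h, Algebra.algebraMap_eq_smul_one,
    ← TensorProduct.smul_tmul, Algebra.smul_def, IsLocalization.mk'_spec'_mk, map_one]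
  rfl

include hlam hS in
theorem exists_away (p : PrimeSpectrum S)
    (hp : RInv.IsQuadEtale (Localization.AtPrime p.asIdeal)
      (Localization.AtPrime p.asIdeal ⊗[S] R)) :
    ∃ s : S, s ∉ p.asIdeal ∧
      RInv.IsQuadEtale (Localization.Away s) (Localization.Away s ⊗[S] R) := by
  haveI : Module.Flat S (Localization.AtPrime p.asIdeal) :=
    IsLocalization.flat _ p.asIdeal.primeCompl
  obtain ⟨ρ, hρ⟩ := Groth.Agent.S15574.result (Localization.AtPrime p.asIdeal)
    (Localization.AtPrime p.asIdeal ⊗[S] R) (lamBC S R lam hS _)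
    (lamBC_involutive S R lam hlam hS _) (lamBC_fixed S R lam hlam hS _) hp
  letI : Algebra R (Localization.AtPrime p.asIdeal ⊗[S] R) := Algebra.TensorProduct.rightAlgebra
  haveI : IsLocalization (Algebra.algebraMapSubmonoid R p.asIdeal.primeCompl)
      (Localization.AtPrime p.asIdeal ⊗[S] R) :=
    IsLocalization.tensorRight (R := S) (S := R) (Localization.AtPrime p.asIdeal) p.asIdeal.primeCompl
  have hmap : ∀ r : R, algebraMap R (Localization.AtPrime p.asIdeal ⊗[S] R) r =
      (1 : Localization.AtPrime p.asIdeal) ⊗ₜ[S] r := fun r => rfl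
  obtain ⟨x, ⟨m, t, ht, rfl⟩, rfl⟩ :=
    IsLocalization.exists_mk'_eq (Algebra.algebraMapSubmonoid R p.asIdeal.primeCompl) ρ
  set M' := Algebra.algebraMapSubmonoid R p.asIdeal.primeCompl with hM'
  set mm : M' := ⟨algebraMap S R t, t, ht, rfl⟩ with hmm
  set ρ := IsLocalization.mk' (Localization.AtPrime p.asIdeal ⊗[S] R) x mm with hρdef
  -- ρ * (1 ⊗ m) = 1 ⊗ x
  have h1 : ρ * ((1 : Localization.AtPrime p.asIdeal) ⊗ₜ[S] (algebraMap S R t)) =
      (1 : Localization.AtPrime p.asIdeal) ⊗ₜ[S] x := by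
    rw [← hmap, ← hmap]
    exact IsLocalization.mk'_spec _ x mm
  have h2 : lamBC S R lam hS _ ρ * ((1 : Localization.AtPrime p.asIdeal) ⊗ₜ[S] (algebraMap S R t)) =
      (1 : Localization.AtPrime p.asIdeal) ⊗ₜ[S] lam x := by
    have := congrArg (lamBC S R lam hS (Localization.AtPrime p.asIdeal)) h1
    rw [map_mul, lamBC_tmul, lamBC_tmul] at this
    rw [← this]
    congr 2
    exact ((hS.2 _).mpr ⟨t, rfl⟩).symm
  have h3 : (ρ - lamBC S R lam hS _ ρ) *
      ((1 : Localization.AtPrime p.asIdeal) ⊗ₜ[S] (algebraMap S R t)) =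
      (1 : Localization.AtPrime p.asIdeal) ⊗ₜ[S] (x - lam x) := by
    rw [sub_mul, h1, h2, TensorProduct.tmul_sub]
  have hu : IsUnit (algebraMap R (Localization.AtPrime p.asIdeal ⊗[S] R) (x - lam x)) := by
    rw [hmap, ← h3]
    refine hρ.mul ?_
    rw [← hmap]
    exact IsLocalization.map_units _ mm
  -- extract divisor
  obtain ⟨v, hv⟩ := hu.exists_right_inv
  obtain ⟨y, m₁, rfl⟩ := IsLocalization.exists_mk'_eq M' v
  rw [← IsLocalization.mk'_one (M := M') (Localization.AtPrime p.asIdeal ⊗[S] R) (x - lam x),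
    ← IsLocalization.mk'_mul, one_mul, IsLocalization.mk'_eq_iff_eq_mul, one_mul,
    IsLocalization.eq_iff_exists M'] at hv
  obtain ⟨c, hc⟩ := hv
  obtain ⟨_, ⟨t₁, ht₁, rfl⟩⟩ := m₁
  obtain ⟨_, ⟨t₂, ht₂, rfl⟩⟩ := c
  refine ⟨t₂ * t₁, ?_, ?_⟩
  · exact fun h => (p.isPrime.mem_or_mem h).elim ht₂ ht₁
  · apply quadEtale_away S R lam hlam hS x (algebraMap S R t₂ * y) (t₂ * t₁)
    rw [map_mul]
    simp only at hc
    rw [← hc]
    ring

end Main

end Groth.Agent.Lib.Helper6.RInvL
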