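import Mathlib
import Groth.Prelude.Def_W4c2azumayainvolQEt
import Groth.Agent.Lib.Helper6.RInvL.Spread
import Groth.Agent.S15576
import Groth.Agent.S15577

/-!
# Branch points of a ring with involution (S15587)
-/

set_option linter.unusedSectionVars false
set_option linter.unusedVariables false
set_option linter.unusedSimpArgs false
set_option autoImplicit false
set_option linter.style.haveILetI false
set_option maxHeartbeats 400000

universe u v w

open TensorProduct

namespace Groth.Agent.Lib.Helper6.RInvL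

variable (S : Type u) (R : Type v) [CommRing S] [CommRing R] [Algebra S R]
  (lam : R ≃+* R) (hlam : Function.Involutive lam) (hS : RInv.IsFixedRing S R lam)
  (p : PrimeSpectrum S)

/-- `R → S_p ⊗ R`. -/
noncomputable def ιR : R →+* Localization.AtPrime p.asIdeal ⊗[S] R :=
  (Algebra.TensorProduct.includeRight : R →ₐ[S] Localization.AtPrime p.asIdeal ⊗[S] R).toRingHom

theorem ιR_apply (r : R) : ιR S R p r = (1 : Localization.AtPrime p.asIdeal) ⊗ₜ[S] r := rfl

theorem ιR_comp :
    (ιR S R p).comp (algebraMap S R) =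
      (algebraMap (Localization.AtPrime p.asIdeal) (Localization.AtPrime p.asIdeal ⊗[S] R)).comp
        (algebraMap S (Localization.AtPrime p.asIdeal)) := by
  ext s
  change (1 : Localization.AtPrime p.asIdeal) ⊗ₜ[S] (algebraMap S R s) =
    (algebraMap S (Localization.AtPrime p.asIdeal) s) ⊗ₜ[S] (1 : R)
  rw [Algebra.algebraMap_eq_smul_one, Algebra.algebraMap_eq_smul_one, TensorProduct.smul_tmul]

include hlam hS in
theorem isIntegral_loc :
    Algebra.IsIntegral (Localization.AtPrime p.asIdeal) (Localization.AtPrime p.asIdeal ⊗[S] R) := by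
  haveI : Module.Flat S (Localization.AtPrime p.asIdeal) :=
    IsLocalization.flat _ p.asIdeal.primeCompl
  exact Groth.Agent.S15574.isIntegral_of_inv (Localization.AtPrime p.asIdeal)
    (Localization.AtPrime p.asIdeal ⊗[S] R) (lamBC S R lam hS _)
    (lamBC_involutive S R lam hlam hS _) (lamBC_fixed S R lam hlam hS _)

include hlam hS in
/-- a maximal ideal of `S_p ⊗ R` contracts to `p`. -/
theorem comap_max (𝔫 : Ideal (Localization.AtPrime p.asIdeal ⊗[S] R)) [h𝔫 : 𝔫.IsMaximal] :
    (𝔫.comap (ιR S R p)).comap (algebraMap S R) = p.asIdeal := by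
  haveI := isIntegral_loc S R lam hlam hS p
  rw [Ideal.comap_comap, ιR_comp, ← Ideal.comap_comap]
  have h1 : (𝔫.comap (algebraMap (Localization.AtPrime p.asIdeal)
      (Localization.AtPrime p.asIdeal ⊗[S] R))).IsMaximal :=
    Ideal.isMaximal_comap_of_isIntegral_of_isMaximal 𝔫
  rw [IsLocalRing.eq_maximalIdeal h1]
  exact Localization.AtPrime.under_maximalIdeal

include hlam hS in
/-- every prime of `R` over `p` is the contraction of a maximal ideal of `S_p ⊗ R`. -/
theorem exists_max_of_over (q' : Ideal R) [hq' : q'.IsPrime]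
    (hover : q'.comap (algebraMap S R) = p.asIdeal) :
    ∃ 𝔫 : Ideal (Localization.AtPrime p.asIdeal ⊗[S] R), 𝔫.IsMaximal ∧ 𝔫.comap (ιR S R p) = q' := by
  haveI := isIntegral_loc S R lam hlam hS p
  letI : Algebra R (Localization.AtPrime p.asIdeal ⊗[S] R) := Algebra.TensorProduct.rightAlgebra
  haveI : IsLocalization (Algebra.algebraMapSubmonoid R p.asIdeal.primeCompl)
      (Localization.AtPrime p.asIdeal ⊗[S] R) :=
    IsLocalization.tensorRight (R := S) (S := R) (Localization.AtPrime p.asIdeal)
      p.asIdeal.primeCompl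
  have hdisj : Disjoint ((Algebra.algebraMapSubmonoid R p.asIdeal.primeCompl : Submonoid R) : Set R)
      (q' : Set R) := by
    rw [Set.disjoint_left]
    rintro _ ⟨t, ht, rfl⟩ hmem
    apply ht
    rw [← hover]
    exact hmem
  have hP := IsLocalization.isPrime_of_isPrime_disjoint
    (Algebra.algebraMapSubmonoid R p.asIdeal.primeCompl)
    (Localization.AtPrime p.asIdeal ⊗[S] R) q' hq' hdisj
  have hc := IsLocalization.under_map_of_isPrime_disjoint
    (Algebra.algebraMapSubmonoid R p.asIdeal.primeCompl)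
    (Localization.AtPrime p.asIdeal ⊗[S] R) hq' hdisj
  set P := Ideal.map (algebraMap R (Localization.AtPrime p.asIdeal ⊗[S] R)) q' with hPdef
  have hc' : P.comap (ιR S R p) = q' := hc
  refine ⟨P, ?_, hc'⟩
  haveI := hP
  apply Ideal.isMaximal_of_isIntegral_of_isMaximal_comap (R := Localization.AtPrime p.asIdeal) P
  -- the contraction to `S_p` is the maximal ideal
  set P' := P.comap (algebraMap (Localization.AtPrime p.asIdeal)
      (Localization.AtPrime p.asIdeal ⊗[S] R)) with hP'
  have h2 : P'.comap (algebraMap S (Localization.AtPrime p.asIdeal)) = p.asIdeal := by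
    rw [hP', Ideal.comap_comap, ← ιR_comp, ← Ideal.comap_comap, hc', hover]
  have h3 : P' = IsLocalRing.maximalIdeal (Localization.AtPrime p.asIdeal) := by
    rw [← IsLocalization.map_under p.asIdeal.primeCompl (Localization.AtPrime p.asIdeal) P',
      ← IsLocalization.map_under p.asIdeal.primeCompl (Localization.AtPrime p.asIdeal)
        (IsLocalRing.maximalIdeal (Localization.AtPrime p.asIdeal))]
    congr 1
    exact h2.trans Localization.AtPrime.under_maximalIdeal.symm
  rw [h3]
  infer_instance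


include hlam hS in
/-- non-etaleness at `p` is equivalent to `lam ≡ id` modulo the Jacobson radical of `S_p ⊗ R`. -/
theorem not_quadEtale_iff_jac :
    ¬ RInv.IsQuadEtale (Localization.AtPrime p.asIdeal) (Localization.AtPrime p.asIdeal ⊗[S] R) ↔
      ∀ ρ : Localization.AtPrime p.asIdeal ⊗[S] R,
        lamBC S R lam hS _ ρ - ρ ∈ Ring.jacobson (Localization.AtPrime p.asIdeal ⊗[S] R) := by
  haveI : Module.Flat S (Localization.AtPrime p.asIdeal) :=
    IsLocalization.flat _ p.asIdeal.primeCompl
  constructor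
  · intro hq ρ
    by_contra hρ
    exact hq (Groth.Agent.S15576.result (Localization.AtPrime p.asIdeal)
      (Localization.AtPrime p.asIdeal ⊗[S] R) (lamBC S R lam hS _)
      (lamBC_involutive S R lam hlam hS _) (lamBC_fixed S R lam hlam hS _) ⟨ρ, hρ⟩)
  · intro h
    exact (Groth.Agent.S15577.result (Localization.AtPrime p.asIdeal)
      (Localization.AtPrime p.asIdeal ⊗[S] R) (lamBC S R lam hS _)
      (lamBC_involutive S R lam hlam hS _) (lamBC_fixed S R lam hlam hS _) h).2

include hlam hS in
theorem isLocal_of_jac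
    (h : ∀ ρ : Localization.AtPrime p.asIdeal ⊗[S] R,
        lamBC S R lam hS _ ρ - ρ ∈ Ring.jacobson (Localization.AtPrime p.asIdeal ⊗[S] R)) :
    IsLocalRing (Localization.AtPrime p.asIdeal ⊗[S] R) := by
  haveI : Module.Flat S (Localization.AtPrime p.asIdeal) :=
    IsLocalization.flat _ p.asIdeal.primeCompl
  exact (Groth.Agent.S15577.result (Localization.AtPrime p.asIdeal)
      (Localization.AtPrime p.asIdeal ⊗[S] R) (lamBC S R lam hS _)
      (lamBC_involutive S R lam hlam hS _) (lamBC_fixed S R lam hlam hS _) h).1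

include hlam hS in
theorem branch_iff :
    ¬ RInv.IsQuadEtale (Localization.AtPrime p.asIdeal) (Localization.AtPrime p.asIdeal ⊗[S] R) ↔
      ∃ q : PrimeSpectrum R, q.asIdeal.comap (algebraMap S R) = p.asIdeal ∧
        (∀ q' : PrimeSpectrum R, q'.asIdeal.comap (algebraMap S R) = p.asIdeal → q' = q) ∧
        ∀ r : R, lam r - r ∈ q.asIdeal := by
  rw [not_quadEtale_iff_jac S R lam hlam hS p]
  constructor
  · intro h
    haveI := isLocal_of_jac S R lam hlam hS p h
    set 𝔪 := IsLocalRing.maximalIdeal (Localization.AtPrime p.asIdeal ⊗[S] R) with h𝔪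
    refine ⟨⟨𝔪.comap (ιR S R p), Ideal.comap_isPrime _ _⟩, ?_, ?_, ?_⟩
    · exact comap_max S R lam hlam hS p 𝔪
    · intro q' hq'
      obtain ⟨𝔫, h𝔫, h𝔫q⟩ := exists_max_of_over S R lam hlam hS p q'.asIdeal hq'
      apply PrimeSpectrum.ext
      change q'.asIdeal = 𝔪.comap (ιR S R p)
      rw [← h𝔫q, IsLocalRing.eq_maximalIdeal h𝔫]
    · intro r
      change ιR S R p (lam r - r) ∈ 𝔪
      rw [h𝔪, ← IsLocalRing.ringJacobson_eq_maximalIdeal]
      have := h (ιR S R p r)
      rw [ιR_apply, lamBC_tmul, ← TensorProduct.tmul_sub] at this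
      exact this
  · rintro ⟨q, hq, huniq, hq3⟩ ρ
    rw [Ring.jacobson_eq_sInf_isMaximal, Ideal.mem_sInf]
    intro 𝔫 h𝔫
    haveI : 𝔫.IsMaximal := h𝔫
    have hc := comap_max S R lam hlam hS p 𝔫
    have hq𝔫 : 𝔫.comap (ιR S R p) = q.asIdeal := by
      have := huniq ⟨𝔫.comap (ιR S R p), Ideal.comap_isPrime _ _⟩ hc
      exact congrArg PrimeSpectrum.asIdeal this
    -- write ρ as a fraction
    letI : Algebra R (Localization.AtPrime p.asIdeal ⊗[S] R) := Algebra.TensorProduct.rightAlgebra
    haveI : IsLocalization (Algebra.algebraMapSubmonoid R p.asIdeal.primeCompl)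
        (Localization.AtPrime p.asIdeal ⊗[S] R) :=
      IsLocalization.tensorRight (R := S) (S := R) (Localization.AtPrime p.asIdeal)
        p.asIdeal.primeCompl
    have hmap : ∀ r : R, algebraMap R (Localization.AtPrime p.asIdeal ⊗[S] R) r =
        (1 : Localization.AtPrime p.asIdeal) ⊗ₜ[S] r := fun r => rfl
    obtain ⟨x, ⟨m, t, ht, rfl⟩, rfl⟩ :=
      IsLocalization.exists_mk'_eq (Algebra.algebraMapSubmonoid R p.asIdeal.primeCompl) ρ
    set M' := Algebra.algebraMapSubmonoid R p.asIdeal.primeCompl with hM'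
    set mm : M' := ⟨algebraMap S R t, t, ht, rfl⟩ with hmm
    set ρ := IsLocalization.mk' (Localization.AtPrime p.asIdeal ⊗[S] R) x mm with hρdef
    have h1 : ρ * ((1 : Localization.AtPrime p.asIdeal) ⊗ₜ[S] (algebraMap S R t)) =
        (1 : Localization.AtPrime p.asIdeal) ⊗ₜ[S] x := by
      rw [← hmap, ← hmap]
      exact IsLocalization.mk'_spec _ x mm
    have h2 : lamBC S R lam hS _ ρ *
        ((1 : Localization.AtPrime p.asIdeal) ⊗ₜ[S] (algebraMap S R t)) =
        (1 : Localization.AtPrime p.asIdeal) ⊗ₜ[S] lam x := by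
      have := congrArg (lamBC S R lam hS (Localization.AtPrime p.asIdeal)) h1
      rw [map_mul, lamBC_tmul, lamBC_tmul] at this
      rw [← this]
      congr 2
      exact ((hS.2 _).mpr ⟨t, rfl⟩).symm
    have h3 : (lamBC S R lam hS _ ρ - ρ) *
        ((1 : Localization.AtPrime p.asIdeal) ⊗ₜ[S] (algebraMap S R t)) =
        ιR S R p (lam x - x) := by
      rw [sub_mul, h1, h2, ← TensorProduct.tmul_sub]
      rfl
    have h4 : ιR S R p (lam x - x) ∈ 𝔫 := by
      change lam x - x ∈ 𝔫.comap (ιR S R p)
      rw [hq𝔫]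
      exact hq3 x
    rw [← h3] at h4
    have hunit : IsUnit ((1 : Localization.AtPrime p.asIdeal) ⊗ₜ[S] (algebraMap S R t) :
        Localization.AtPrime p.asIdeal ⊗[S] R) := by
      rw [← hmap]
      exact IsLocalization.map_units _ mm
    rcases h𝔫.isPrime.mem_or_mem h4 with h5 | h5
    · exact h5
    · exact absurd (Ideal.eq_top_of_isUnit_mem _ h5 hunit) h𝔫.ne_top

end Groth.Agent.Lib.Helper6.RInvL
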