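import Mathlib
import Groth.Prelude.Def_W4c2azumayainvolQEt
import Groth.Agent.Lib.Helper6.RInvL.Branch

/-!
# The involution is trivial on the reduced preimage of the branch locus (S15588)
-/

set_option linter.unusedSectionVars false
set_option linter.unusedVariables false
set_option linter.unusedSimpArgs false
set_option autoImplicit false
set_option linter.style.haveILetI false
set_option maxHeartbeats 400000

universe u v w

open TensorProduct

namespace Groth.Agent.Lib.Helper6.RInvL

variable (S : Type u) (R : Type v) [CommRing S] [CommRing R] [Algebra S R]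
  (lam : R ≃+* R) (hlam : Function.Involutive lam) (hS : RInv.IsFixedRing S R lam)

include hlam hS in
/-- a witness of quadratic etaleness at `p`. -/
theorem exists_witness (p : PrimeSpectrum S)
    (hp : RInv.IsQuadEtale (Localization.AtPrime p.asIdeal)
      (Localization.AtPrime p.asIdeal ⊗[S] R)) :
    ∃ (x y : R) (s : S), s ∉ p.asIdeal ∧ (x - lam x) * y = algebraMap S R s := by
  haveI : Module.Flat S (Localization.AtPrime p.asIdeal) :=
    IsLocalization.flat _ p.asIdeal.primeCompl
  obtain ⟨ρ, hρ⟩ := Groth.Agent.S15574.result (Localization.AtPrime p.asIdeal)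
    (Localization.AtPrime p.asIdeal ⊗[S] R) (lamBC S R lam hS _)
    (lamBC_involutive S R lam hlam hS _) (lamBC_fixed S R lam hlam hS _) hp
  letI : Algebra R (Localization.AtPrime p.asIdeal ⊗[S] R) := Algebra.TensorProduct.rightAlgebra
  haveI : IsLocalization (Algebra.algebraMapSubmonoid R p.asIdeal.primeCompl)
      (Localization.AtPrime p.asIdeal ⊗[S] R) :=
    IsLocalization.tensorRight (R := S) (S := R) (Localization.AtPrime p.asIdeal) p.asIdeal.primeCompl
  have hmap : ∀ r : R, algebraMap R (Localization.AtPrime p.asIdeal ⊗[S] R) r =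
      (1 : Localization.AtPrime p.asIdeal) ⊗ₜ[S] r := fun r => rfl
  obtain ⟨x, ⟨m, t, ht, rfl⟩, rfl⟩ :=
    IsLocalization.exists_mk'_eq (Algebra.algebraMapSubmonoid R p.asIdeal.primeCompl) ρ
  set M' := Algebra.algebraMapSubmonoid R p.asIdeal.primeCompl with hM'
  set mm : M' := ⟨algebraMap S R t, t, ht, rfl⟩ with hmm
  set ρ := IsLocalization.mk' (Localization.AtPrime p.asIdeal ⊗[S] R) x mm with hρdef
  have h1 : ρ * ((1 : Localization.AtPrime p.asIdeal) ⊗ₜ[S] (algebraMap S R t)) =
      (1 : Localization.AtPrime p.asIdeal) ⊗ₜ[S] x := by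
    rw [← hmap, ← hmap]
    exact IsLocalization.mk'_spec _ x mm
  have h2 : lamBC S R lam hS _ ρ * ((1 : Localization.AtPrime p.asIdeal) ⊗ₜ[S] (algebraMap S R t)) =
      (1 : Localization.AtPrime p.asIdeal) ⊗ₜ[S] lam x := by
    have := congrArg (lamBC S R lam hS (Localization.AtPrime p.asIdeal)) h1
    rw [map_mul, lamBC_tmul, lamBC_tmul] at this
    rw [← this]
    congr 2
    exact ((hS.2 _).mpr ⟨t, rfl⟩).symm
  have h3 : (ρ - lamBC S R lam hS _ ρ) *
      ((1 : Localization.AtPrime p.asIdeal) ⊗ₜ[S] (algebraMap S R t)) =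
      (1 : Localization.AtPrime p.asIdeal) ⊗ₜ[S] (x - lam x) := by
    rw [sub_mul, h1, h2, TensorProduct.tmul_sub]
  have hu : IsUnit (algebraMap R (Localization.AtPrime p.asIdeal ⊗[S] R) (x - lam x)) := by
    rw [hmap, ← h3]
    refine hρ.mul ?_
    rw [← hmap]
    exact IsLocalization.map_units _ mm
  obtain ⟨v, hv⟩ := hu.exists_right_inv
  obtain ⟨y, m₁, rfl⟩ := IsLocalization.exists_mk'_eq M' v
  rw [← IsLocalization.mk'_one (M := M') (Localization.AtPrime p.asIdeal ⊗[S] R) (x - lam x),
    ← IsLocalization.mk'_mul, one_mul, IsLocalization.mk'_eq_iff_eq_mul, one_mul,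
    IsLocalization.eq_iff_exists M'] at hv
  obtain ⟨c, hc⟩ := hv
  obtain ⟨_, ⟨t₁, ht₁, rfl⟩⟩ := m₁
  obtain ⟨_, ⟨t₂, ht₂, rfl⟩⟩ := c
  refine ⟨x, algebraMap S R t₂ * y, t₂ * t₁, ?_, ?_⟩
  · exact fun h => (p.isPrime.mem_or_mem h).elim ht₂ ht₁
  · rw [map_mul]
    simp only at hc
    rw [← hc]
    ring

include hlam hS in
/-- a witness gives quadratic etaleness at every prime not containing `s`. -/
theorem quadEtale_atPrime_of_witness (x y : R) (s : S) (h : (x - lam x) * y = algebraMap S R s)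
    (p : PrimeSpectrum S) (hs : s ∉ p.asIdeal) :
    RInv.IsQuadEtale (Localization.AtPrime p.asIdeal) (Localization.AtPrime p.asIdeal ⊗[S] R) := by
  haveI : Module.Flat S (Localization.AtPrime p.asIdeal) :=
    IsLocalization.flat _ p.asIdeal.primeCompl
  apply Groth.Agent.S15573.result (Localization.AtPrime p.asIdeal)
    (Localization.AtPrime p.asIdeal ⊗[S] R)
    (lamBC S R lam hS (Localization.AtPrime p.asIdeal)) (lamBC_involutive S R lam hlam hS _)
    (lamBC_fixed S R lam hlam hS _)
  refine ⟨(1 : Localization.AtPrime p.asIdeal) ⊗ₜ[S] x, ?_⟩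
  rw [lamBC_tmul, ← TensorProduct.tmul_sub]
  have hs' : s ∈ p.asIdeal.primeCompl := hs
  refine IsUnit.of_mul_eq_one ((IsLocalization.mk' (Localization.AtPrime p.asIdeal) (1 : S)
    (⟨s, hs'⟩ : p.asIdeal.primeCompl)) ⊗ₜ[S] y) ?_
  rw [Algebra.TensorProduct.tmul_mul_tmul, one_mul, h, Algebra.algebraMap_eq_smul_one,
    ← TensorProduct.smul_tmul, Algebra.smul_def, IsLocalization.mk'_spec'_mk, map_one]
  rfl

include hlam hS in
/-- a prime containing the vanishing ideal of the branch locus is a branch point. -/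
theorem mem_branch_of_vanishingIdeal_le (W : Set (PrimeSpectrum S))
    (hW : W = {p : PrimeSpectrum S | ¬ RInv.IsQuadEtale (Localization.AtPrime p.asIdeal)
      (Localization.AtPrime p.asIdeal ⊗[S] R)})
    (p : PrimeSpectrum S) (hp : PrimeSpectrum.vanishingIdeal W ≤ p.asIdeal) : p ∈ W := by
  by_contra hpW
  have hq : RInv.IsQuadEtale (Localization.AtPrime p.asIdeal)
      (Localization.AtPrime p.asIdeal ⊗[S] R) := by
    rw [hW] at hpW
    exact not_not.mp hpW
  obtain ⟨x, y, s, hs, hxy⟩ := exists_witness S R lam hlam hS p hq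
  apply hs
  apply hp
  rw [PrimeSpectrum.mem_vanishingIdeal]
  intro p' hp'
  by_contra hsp'
  rw [hW] at hp'
  exact hp' (quadEtale_atPrime_of_witness S R lam hlam hS x y s hxy p' hsp')

include hlam hS in
theorem lam_sub_mem_radical (W : Set (PrimeSpectrum S))
    (hW : W = {p : PrimeSpectrum S | ¬ RInv.IsQuadEtale (Localization.AtPrime p.asIdeal)
      (Localization.AtPrime p.asIdeal ⊗[S] R)})
    (r : R) :
    lam r - r ∈ ((PrimeSpectrum.vanishingIdeal W).map (algebraMap S R)).radical := by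
  rw [Ideal.radical_eq_sInf, Ideal.mem_sInf]
  rintro q ⟨hIq, hqprime⟩
  haveI := hqprime
  set p : PrimeSpectrum S := ⟨q.comap (algebraMap S R), Ideal.comap_isPrime _ _⟩ with hp
  have hIp : PrimeSpectrum.vanishingIdeal W ≤ p.asIdeal := by
    intro a ha
    change algebraMap S R a ∈ q
    exact hIq (Ideal.mem_map_of_mem _ ha)
  have hpW := mem_branch_of_vanishingIdeal_le S R lam hlam hS W hW p hIp
  rw [hW] at hpW
  obtain ⟨q₀, hq₀, huniq, hq₀3⟩ := (branch_iff S R lam hlam hS p).mp hpW
  have : (⟨q, hqprime⟩ : PrimeSpectrum R) = q₀ := huniq ⟨q, hqprime⟩ rfl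
  have h2 : q = q₀.asIdeal := congrArg PrimeSpectrum.asIdeal this
  rw [h2]
  exact hq₀3 r

end Groth.Agent.Lib.Helper6.RInvL
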