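import Mathlib
import Groth.Prelude.Def_W4c2azumayainvolQEt
import Groth.Agent.Lib.Helper6.RInvL.Locus

/-!
# The reduced preimage of the branch locus maps homeomorphically onto it (S15589)
-/

set_option linter.unusedSectionVars false
set_option linter.unusedVariables false
set_option linter.unusedSimpArgs false
set_option autoImplicit false
set_option linter.style.haveILetI false
set_option maxHeartbeats 400000

universe u v w

open TensorProduct

namespace Groth.Agent.Lib.Helper6.RInvL

variable (S : Type u) (R : Type v) [CommRing S] [CommRing R] [Algebra S R]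
  (lam : R ≃+* R) (hlam : Function.Involutive lam) (hS : RInv.IsFixedRing S R lam)

include hlam hS in
/-- `rad(IR) ∩ S = I` for a radical ideal `I` of the fixed ring. -/
theorem mem_of_map_mem_radical (I : Ideal S) (hI : I.IsRadical) (s : S)
    (hs : algebraMap S R s ∈ (I.map (algebraMap S R)).radical) : s ∈ I := by
  haveI := Groth.Agent.S15574.isIntegral_of_inv S R lam hlam hS
  rw [← hI.radical, Ideal.radical_eq_sInf, Ideal.mem_sInf]
  rintro p ⟨hIp, hpprime⟩
  haveI := hpprime
  have hker : (⊥ : Ideal R).comap (algebraMap S R) ≤ p := by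
    intro a ha
    have : algebraMap S R a = 0 := ha
    have h0 : a = 0 := hS.1 (this.trans (map_zero _).symm)
    rw [h0]
    exact p.zero_mem
  obtain ⟨Q, -, hQprime, hQ⟩ := Ideal.exists_ideal_over_prime_of_isIntegral p (⊥ : Ideal R) hker
  haveI := hQprime
  have hIQ : I.map (algebraMap S R) ≤ Q := by
    rw [Ideal.map_le_iff_le_comap, hQ]
    exact hIp
  have : algebraMap S R s ∈ Q := hQprime.radical_le_iff.mpr hIQ hs
  rw [← hQ]
  exact this

include hlam hS in
theorem homeo_main (W : Set (PrimeSpectrum S))
    (hW : W = {p : PrimeSpectrum S | ¬ RInv.IsQuadEtale (Localization.AtPrime p.asIdeal)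
      (Localization.AtPrime p.asIdeal ⊗[S] R)})
    (J : Ideal R) (hJ : J = ((PrimeSpectrum.vanishingIdeal W).map (algebraMap S R)).radical)
    (hIJ : PrimeSpectrum.vanishingIdeal W ≤ J.comap (algebraMap S R)) :
    IsHomeomorph (PrimeSpectrum.comap (Ideal.quotientMap J (algebraMap S R) hIJ)) ∧
      (IsUnit (2 : S) → Function.Bijective (Ideal.quotientMap J (algebraMap S R) hIJ)) := by
  set I := PrimeSpectrum.vanishingIdeal W with hIdef
  set φ := Ideal.quotientMap J (algebraMap S R) hIJ with hφ
  have hφmk : ∀ s : S, φ (Ideal.Quotient.mk I s) = Ideal.Quotient.mk J (algebraMap S R s) :=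
    fun s => rfl
  have hIrad : I.IsRadical := PrimeSpectrum.isRadical_vanishingIdeal W
  have hlamJ : ∀ r : R, lam r - r ∈ J := fun r => by
    rw [hJ]
    exact lam_sub_mem_radical S R lam hlam hS W hW r
  have hker : ∀ x : S ⧸ I, φ x = 0 → x = 0 := by
    intro x hx
    obtain ⟨s, rfl⟩ := Ideal.Quotient.mk_surjective x
    rw [hφmk, Ideal.Quotient.eq_zero_iff_mem, hJ] at hx
    rw [Ideal.Quotient.eq_zero_iff_mem]
    exact mem_of_map_mem_radical S R lam hlam hS I hIrad s hx
  constructor
  · apply PrimeSpectrum.isHomeomorph_comap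
    · intro x
      obtain ⟨r, rfl⟩ := Ideal.Quotient.mk_surjective x
      refine ⟨2, by norm_num, ?_⟩
      obtain ⟨n, hn⟩ := (hS.2 (r * lam r)).mp (by rw [map_mul, hlam r, mul_comm])
      refine ⟨Ideal.Quotient.mk I n, ?_⟩
      rw [hφmk, hn, ← map_pow, Ideal.Quotient.eq]
      have : r * lam r - r ^ 2 = r * (lam r - r) := by ring
      rw [this]
      exact J.mul_mem_left r (hlamJ r)
    · intro x hx
      rw [hker x hx]
      exact Ideal.zero_mem _
  · intro h2
    constructor
    · rw [injective_iff_map_eq_zero]
      exact hker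
    · intro x
      obtain ⟨r, rfl⟩ := Ideal.Quotient.mk_surjective x
      obtain ⟨a, ha⟩ := (hS.2 (r + lam r)).mp (by rw [map_add, hlam r, add_comm])
      obtain ⟨u, hu⟩ := h2.exists_left_inv
      refine ⟨Ideal.Quotient.mk I (u * a), ?_⟩
      rw [hφmk, Ideal.Quotient.eq, map_mul, ha]
      have h2' : algebraMap S R u * 2 = 1 := by
        have := congrArg (algebraMap S R) hu
        rw [map_mul, map_one] at this
        rw [← this]
        congr 1
        exact (map_ofNat (algebraMap S R) 2).symm
      have : algebraMap S R u * (r + lam r) - r = algebraMap S R u * (lam r - r) := by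
        linear_combination r * h2'
      rw [this]
      exact J.mul_mem_left _ (hlamJ r)

end Groth.Agent.Lib.Helper6.RInvL
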